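set_option autoImplicit false
namespace Cfsg.Agent.Lib.Helper6.TCD.J1C
noncomputable def NC (i : Nat) : Nat := Nat.land (Nat.shiftRight 0x20000380001120000100005000130008c4400004000140000400002500000000020000800000d0000000000c0000400002300000000000000800000c8000000000400020000021000000000100003000018000000000000000000000000000 (Nat.mul 86 (Nat.land i 511))) 77371252455336267181195263
end Cfsg.Agent.Lib.Helper6.TCD.J1C
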