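set_option autoImplicit false
namespace Cfsg.Agent.Lib.Helper6.TCD.J1C
noncomputable def SC (i : Nat) : Nat := Nat.land (Nat.shiftRight 0x8020000000400298020008d008000000000000000000000100000000002a0020000000400000000000000000000000000000000000000000700c0000000000000040001c03000000100001c030000000000000010000000000000000000000000000000000000000000000000000000008020000000400000040000001000000000000001000000010000001000000040000200c0019c020000200c0000000000000000000001000000000000000000000000000000000000000000000 (Nat.mul 30 (Nat.land i 1023))) 1073741823
end Cfsg.Agent.Lib.Helper6.TCD.J1C
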