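set_option autoImplicit false
namespace Cfsg.Agent.Lib.Helper6.TCD.J1C
noncomputable def WI (i : Nat) : Nat := Nat.land (Nat.shiftRight 0x21c000e0086800340618020c0086000320817030b8105c042e0016040b01858082c0216000b80050002a0213000900848002406100208008400020000e0306010300418000d12058882c40161e0b0e058682c3016160b0a058482c20160e0b06058282c1016060b02058082c0014240a1105080283c141c0a0d05060282c14140a0905040281c140c0a0505020280c14040a01050002c841240091f048f024741238091b048d0246412300917048b02454122809130489024441220090f0487024341218090b04850242412100907048302414120809030481024041200082104100207c103c081d040e0206c10340819040c0205c102c0815040a0204c1024081104080203c101c080d04060202c1014080904040201c100c080504020200c100408010400024340e18070b038501c240e100707038301c140e080703038101c040e00060d03060182c0c14060903040181c0c0c060503020180c0c040601030001c040a0004010200014000400020000 (Nat.mul 17 (Nat.land i 255))) 131071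
end Cfsg.Agent.Lib.Helper6.TCD.J1C
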