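set_option autoImplicit false
namespace Cfsg.Agent.Lib.Helper6.TCD.J1C
noncomputable def SH (i : Nat) : Nat := Nat.land (Nat.shiftRight 0x14800000000290000000005200000000070000140000d8000080001e00003000020000040000a400000000148000000000f000010000520000000004800008000068000000002900000000052000000000a400000000148000000002900000000032000040000a40000000005800000000180000100003a0001000005c00008000148000000000900000000052000000000a400000000148000000002900000000052000000000a40000000014800000000060000200000a0000000007c0002000008800038000290000000002a0000200000c000000000380001800013000070000480000a00005000008000118000080001a0000800001c0000e00000400000000060000300000a00005000010000080000100000c000010000100000000001 (Nat.mul 43 (Nat.land i 1023))) 8796093022207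
end Cfsg.Agent.Lib.Helper6.TCD.J1C
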